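import Groth.Agent.CohBase.Push

/-!
# Cohomology of a pushforward on every open
-/

set_option autoImplicit false

universe u

open CategoryTheory Limits Opposite TopologicalSpace
open Groth.Agent.CohBase

noncomputable section

namespace Groth.Agent.PushAtLib

variable {X Y : TopCat.{u}} (f : X ⟶ Y)

/-- Degree zero comparison on an open. -/
def pushZeroAt (V : Opens Y) (F : AbSh X) :
    HU (pre f V) F 0 ≃+ HU V ((pushS f).obj F) 0 :=
  (H0Equiv (pre f V) F).trans (H0Equiv V ((pushS f).obj F)).symm

lemma pushZeroAt_natural (V : Opens Y) {F G : AbSh X} (φ : F ⟶ G) (x : HU (pre f V) F 0) :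
    pushZeroAt f V G (hmap (pre f V) φ 0 x) = hmap V ((pushS f).map φ) 0 (pushZeroAt f V F x) := by
  apply (H0Equiv V ((pushS f).obj G)).injective
  rw [H0Equiv_hmap]
  simp only [pushZeroAt, AddEquiv.trans_apply]
  erw [AddEquiv.apply_symm_apply, AddEquiv.apply_symm_apply]
  exact H0Equiv_hmap (pre f V) φ x

variable {B : Opens Y → Prop} (hB : ∀ (W : Opens Y) (y : Y), y ∈ W → ∃ V, B V ∧ y ∈ V ∧ V ≤ W)

include hB in
/-- Cohomology of the pushforward on an open. -/
theorem push_comparison_at [(pushS f).PreservesZeroMorphisms] (V : Opens Y) {F : AbSh X}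
    (hF : PushAcyclic f B F) (n : ℕ) :
    Nonempty (HU (pre f V) F n ≃+ HU V ((pushS f).obj F) n) := by
  induction n generalizing F with
  | zero => exact ⟨pushZeroAt f V F⟩
  | succ n ih =>
    have hS := injSeq_shortExact F
    have hS' := push_shortExact f hB hS hF
    let S := injSeq F
    let S' := S.map (pushS f)
    have hX2 : ∀ m, Subsingleton (HU V S'.X₂ (m + 1)) := fun m => by
      change Subsingleton (HU V ((pushS f).obj S.X₂) (m + 1))
      exact push_injective_acyclic f S.X₂ V m
    cases n with
    | zero =>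
      haveI := subsingleton_of_injective (pre f V) S.X₂ 0
      haveI := hX2 0
      let φ₁ := hδ hS (pre f V) 0
      let φ₂ := (hδ hS' V 0).comp (pushZeroAt f V S.X₃).toAddMonoidHom
      have h1 : Function.Surjective φ₁ := hδ_surjective hS (pre f V) 0
      have h2 : Function.Surjective φ₂ :=
        (hδ_surjective hS' V 0).comp (pushZeroAt f V S.X₃).surjective
      have hk : φ₁.ker = φ₂.ker := by
        ext x
        rw [AddMonoidHom.mem_ker, AddMonoidHom.mem_ker]
        refine (hδ_eq_zero_iff hS (pre f V) 0 x).trans ?_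
        refine Iff.trans ?_ (hδ_eq_zero_iff hS' V 0 _).symm
        constructor
        · rintro ⟨y, rfl⟩
          exact ⟨pushZeroAt f V S.X₂ y, (pushZeroAt_natural f V S.g y).symm⟩
        · rintro ⟨y, hy⟩
          obtain ⟨z, rfl⟩ := (pushZeroAt f V S.X₂).surjective y
          exact ⟨z, (pushZeroAt f V S.X₃).injective ((pushZeroAt_natural f V S.g z).trans hy)⟩
      exact ⟨((QuotientAddGroup.quotientKerEquivOfSurjective φ₁ h1).symm.trans
        (QuotientAddGroup.quotientAddEquivOfEq hk)).trans
        (QuotientAddGroup.quotientKerEquivOfSurjective φ₂ h2)⟩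
    | succ n =>
      obtain ⟨e⟩ := ih (hF.quot f)
      haveI := subsingleton_of_injective (pre f V) S.X₂ n
      haveI := subsingleton_of_injective (pre f V) S.X₂ (n + 1)
      haveI := hX2 n
      haveI := hX2 (n + 1)
      exact ⟨((AddEquiv.ofBijective _ (hδ_bijective hS (pre f V) (n + 1))).symm.trans e).trans
        (AddEquiv.ofBijective _ (hδ_bijective hS' V (n + 1)))⟩

end Groth.Agent.PushAtLib
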